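import Mathlib
import Cfsg.Prelude.Def_ChevStructure
import Cfsg.Prelude.Def_ChevG2
import Cfsg.Agent.Lib.helper8.ChevBaseAll
import Cfsg.Agent.Lib.helper8.ChevUnits
import Cfsg.Agent.Lib.helper23.P4V.Defs
import Cfsg.Agent.S1030

/-!
# Project G2V = S2461 (helper19): a semisimple class of `G₂(F)`, `|F| ≥ 3`, whose square covers the
group.  Definitions.

Roots of `chevG2` (index: root): `0: -ρ = -3a-2b`, `1: -3a-b`, `2: -2a-b`, `3: -a-b`, `4: -a`, `5: -b`,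
`6: b` (long, simple 1), `7: a` (short, simple 0), `8: a+b`, `9: 2a+b`, `10: 3a+b`, `11: ρ = 3a+2b`.
Coordinates of the module: `hI 0, hI 1` (`= h_a, h_b`), `eI r` (`r < 12`).

`J = {0}`: `Pp = parabolicSubgroup {0} = Qp ⋊ Lv`, `Qp = unipotentRadical {0} = X₆ X₈ X₉ X₁₀ X₁₁`
(Heisenberg of order `q⁵`, centre `X₁₁`), `Lv = leviSubgroup {0} = ⟨H, X₇, X₄⟩ ≅ GL₂(F)` via `iota`.
`Qm = n_ρ Qp n_ρ⁻¹ = X₅ X₃ X₂ X₁ X₀` is the opposite radical.

* `X r t = x_r(t)`, `na nb nrho = n_a(1), n_b(1), n_ρ(1)`, `ha c = h_a(c)`, `hb c = h_b(c)` in `GL`;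
* `phiA : SL₂(F) →* GL` the homomorphism of S1030 for the root `a = 7`;
* `iota A = phiA (A * diag(1, (det A)⁻¹)) * hb (det A)` : `GL₂(F) → GL` (a homomorphism, row I2):
  `iota !![1,t;0,1] = X 7 t`, `iota !![1,0;t,1] = X 4 t`, `iota !![1,0;0,c] = hb c`,
  `iota !![c,0;0,c⁻¹] = ha c`;
* `xG τ ν hν = iota (cmp τ ν)` : the element whose class square covers; `xM τ ν` its explicit matrix;
* `Good' τ ν` : `Good τ ν` (P4V: `τ ≠ 0`, `ν ≠ 1`, `t² - τ t + ν` without root) and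
  `ν² + ν - τ³ + 3 τ ν ≠ 0`  (equivalent to `C_Qp(xG) = 1`);
* `CjG x y`, `CovG x g` : conjugacy / product of two conjugates with conjugators in `chevG2.group F`.
-/

set_option autoImplicit false

namespace Cfsg.Agent.Lib.Helper19.G2V

open Cfsg.Lie Cfsg.Lie.ChevalleyDatum Matrix
open Cfsg.Agent.Lib.helper8
open Cfsg.Agent.Lib.helper23.P4V

universe u

/-- the base package of helper8's toolkit for `chevG2` -/
theorem hB : H8Base.{u} chevG2 := h8base_all chevG2 (by simp)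

/-- the ambient general linear group -/
abbrev GG (F : Type u) [Field F] := GL chevG2.Idx F

/-- the coordinate `h_i` -/
def hI (i : ℕ) (hi : i < 2 := by decide) : chevG2.Idx := Sum.inl ⟨i, hi⟩

/-- the coordinate `e_r` -/
def eI (r : ℕ) (hr : r < 12 := by decide) : chevG2.Idx := Sum.inr ⟨r, hr⟩

/-- the number `0, 1` (for `h_a, h_b`) or `2 + r` (for `e_r`) of a coordinate -/
def idxN : chevG2.Idx → ℕ
  | Sum.inl i => i.val
  | Sum.inr r => 2 + r.val

section Field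

variable {F : Type u} [Field F]

/-- the root element `x_r(t)` -/
def X (r : ℕ) (t : F) : GG F := h8xU chevG2 hB r t

/-- `n_a = n_a(1)`, `a` the short simple root (index 7) -/
def na : GG F := h8nU chevG2 hB 7 1

/-- `n_b = n_b(1)`, `b` the long simple root (index 6) -/
def nb : GG F := h8nU chevG2 hB 6 1

/-- `n_ρ = n_ρ(1)`, `ρ` the highest root (index 11) -/
def nrho : GG F := h8nU chevG2 hB 11 1

/-- `h_a(c)` -/
def ha (c : F) : GG F := h8hU chevG2 hB 7 c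

/-- `h_b(c)` -/
def hb (c : F) : GG F := h8hU chevG2 hB 6 c

variable (F) in
/-- the group `G₂(F)` inside `GL` -/
abbrev Gp : Subgroup (GG F) := chevG2.group F

variable (F) in
/-- the unipotent radical `X₆ X₈ X₉ X₁₀ X₁₁` of `Pp` -/
def Qp : Subgroup (GG F) := chevG2.unipotentRadical F ({0} : Set ℕ)

variable (F) in
/-- the Levi subgroup `⟨H, X₇, X₄⟩` -/
def Lv : Subgroup (GG F) := chevG2.leviSubgroup F ({0} : Set ℕ)

variable (F) in
/-- the parabolic subgroup `⟨B, n_a⟩` -/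
def Pp : Subgroup (GG F) := chevG2.parabolicSubgroup F ({0} : Set ℕ)

variable (F) in
/-- the opposite radical `n_ρ Qp n_ρ⁻¹ = X₅ X₃ X₂ X₁ X₀` -/
def Qm : Subgroup (GG F) := (Qp F).map (MulAut.conj (nrho : GG F)).toMonoidHom

theorem mem_Qm_iff (v : GG F) : v ∈ Qm F ↔ ∃ u ∈ Qp F, v = nrho * u * nrho⁻¹ := by
  unfold Qm
  rw [Subgroup.mem_map]
  constructor
  · rintro ⟨u, hu, rfl⟩
    exact ⟨u, hu, rfl⟩
  · rintro ⟨u, hu, rfl⟩
    exact ⟨u, hu, rfl⟩

/-- the homomorphism `SL₂(F) → ⟨X₇, X₄⟩` of S1030 -/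
noncomputable def phiA : Matrix.SpecialLinearGroup (Fin 2) F →* GG F :=
  Classical.choose (Cfsg.Agent.S1030.result (F := F) chevG2 (by simp) 7 (by decide))

theorem phiA_range : (phiA (F := F)).range = chevG2.rootSubgroup F 7 ⊔ chevG2.rootSubgroup F 4 :=
  (Classical.choose_spec (Cfsg.Agent.S1030.result (F := F) chevG2 (by simp) 7 (by decide))).1

theorem phiA_upper (g : Matrix.SpecialLinearGroup (Fin 2) F) (t : F)
    (hg : (g : Matrix (Fin 2) (Fin 2) F) = !![1, t; 0, 1]) : phiA g = X 7 t := by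
  apply Units.ext
  exact ((Classical.choose_spec
    (Cfsg.Agent.S1030.result (F := F) chevG2 (by simp) 7 (by decide))).2 g t).1 hg

theorem phiA_lower (g : Matrix.SpecialLinearGroup (Fin 2) F) (t : F)
    (hg : (g : Matrix (Fin 2) (Fin 2) F) = !![1, 0; t, 1]) : phiA g = X 4 t := by
  apply Units.ext
  exact ((Classical.choose_spec
    (Cfsg.Agent.S1030.result (F := F) chevG2 (by simp) 7 (by decide))).2 g t).2 hg

/-- `A * diag(1, (det A)⁻¹)` in `SL₂(F)` -/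
noncomputable def sl2of (A : GL (Fin 2) F) : Matrix.SpecialLinearGroup (Fin 2) F :=
  ⟨(A : M2 F) * !![1, 0; 0, ((A : M2 F).det)⁻¹], by
    have h : (A : M2 F).det ≠ 0 := by
      have := A.isUnit.map (Matrix.detMonoidHom (n := Fin 2) (R := F))
      exact this.ne_zero
    rw [Matrix.det_mul, Matrix.det_fin_two_of, mul_zero, sub_zero, one_mul, mul_inv_cancel₀ h]⟩

theorem sl2of_val (A : GL (Fin 2) F) :
    ((sl2of A : Matrix.SpecialLinearGroup (Fin 2) F) : M2 F) =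
      (A : M2 F) * !![1, 0; 0, ((A : M2 F).det)⁻¹] := rfl

/-- the isomorphism `GL₂(F) → Lv` (as a function; multiplicativity is row I2) -/
noncomputable def iota (A : GL (Fin 2) F) : GG F := phiA (sl2of A) * hb ((A : M2 F).det)

/-- an invertible `2 × 2` matrix as an element of `GL₂(F)` -/
noncomputable def mk2 (A : M2 F) (h : A.det ≠ 0) : GL (Fin 2) F :=
  Matrix.GeneralLinearGroup.mkOfDetNeZero A h

theorem mk2_val (A : M2 F) (h : A.det ≠ 0) : ((mk2 A h : GL (Fin 2) F) : M2 F) = A := rfl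

/-- the companion matrix of `t² - τ t + ν` in `GL₂(F)` -/
noncomputable def cmpU (τ ν : F) (hν : ν ≠ 0) : GL (Fin 2) F :=
  mk2 (cmp τ ν) (by rw [det_cmp]; exact hν)

theorem cmpU_val (τ ν : F) (hν : ν ≠ 0) : ((cmpU τ ν hν : GL (Fin 2) F) : M2 F) = cmp τ ν := rfl

/-- the element whose class square covers `G₂(F)` -/
noncomputable def xG (τ ν : F) (hν : ν ≠ 0) : GG F := iota (cmpU τ ν hν)

/-- the parameters of the class -/
def Good' (τ ν : F) : Prop := Good τ ν ∧ ν ^ 2 + ν - τ ^ 3 + 3 * τ * ν ≠ 0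

/-- the entries of the matrix of `xG τ ν` (row, column numbered by `idxN`) -/
def xMfun (τ ν : F) : ℕ → ℕ → F
  | 0, 0 => -1
  | 6, 0 => 2 * τ / ν
  | 0, 1 => 1
  | 1, 1 => 1
  | 6, 1 => -τ / ν
  | 2, 2 => 1 / ν
  | 3, 3 => τ ^ 3 / ν ^ 2
  | 4, 3 => τ ^ 2 / ν
  | 5, 3 => -τ
  | 7, 3 => ν
  | 3, 4 => -3 * τ ^ 2 / ν ^ 2
  | 4, 4 => -2 * τ / ν
  | 5, 4 => 1
  | 3, 5 => -3 * τ / ν ^ 2
  | 4, 5 => -1 / ν
  | 3, 7 => -1 / ν ^ 2
  | 0, 6 => -τ
  | 6, 6 => τ ^ 2 / ν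
  | 9, 6 => -ν
  | 6, 9 => -1 / ν
  | 8, 8 => τ ^ 3 / ν
  | 10, 8 => τ ^ 2
  | 11, 8 => τ * ν
  | 12, 8 => -ν ^ 2
  | 8, 10 => -3 * τ ^ 2 / ν
  | 10, 10 => -2 * τ
  | 11, 10 => -ν
  | 8, 11 => 3 * τ / ν
  | 10, 11 => 1
  | 8, 12 => 1 / ν
  | 13, 13 => ν
  | _, _ => 0

/-- the matrix of `xG τ ν` (row F1) -/
def xM (τ ν : F) : Matrix chevG2.Idx chevG2.Idx F := Matrix.of fun i j => xMfun τ ν (idxN i) (idxN j)

/-- `y` is conjugate to `x` under `G₂(F)` -/
def CjG (x y : GG F) : Prop := ∃ c ∈ chevG2.group F, y = c * x * c⁻¹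

/-- `g` is a product of two `G₂(F)`-conjugates of `x` -/
def CovG (x g : GG F) : Prop :=
  ∃ c ∈ chevG2.group F, ∃ d ∈ chevG2.group F, g = (c * x * c⁻¹) * (d * x * d⁻¹)

end Field

end Cfsg.Agent.Lib.Helper19.G2V
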